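import Cfsg.Agent.Lib.LinRep.JordanType
import Mathlib

/-!
# Nilpotent endomorphisms up to similarity: determined by the ranks of their powers
-/

set_option autoImplicit false

namespace Cfsg.Agent.UnipClasses

open Polynomial LinRep.JordanType

variable {F : Type*} [Field F]

section Model

variable {d : ℕ} (k : Fin d → ℕ)

/-- The polynomial with the coefficients of block `i`. -/
noncomputable def blockPoly (i : Fin d) : ((Σ i, Fin (k i)) → F) →ₗ[F] F[X] :=
  ∑ j : Fin (k i), (monomial j.1).comp (LinearMap.proj ⟨i, j⟩)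

theorem coeff_blockPoly (f : (Σ i, Fin (k i)) → F) (i : Fin d) (m : ℕ) :
    (blockPoly k i f).coeff m = if h : m < k i then f ⟨i, ⟨m, h⟩⟩ else 0 := by
  rw [blockPoly, LinearMap.sum_apply, finsetSum_coeff]
  simp only [LinearMap.comp_apply, LinearMap.proj_apply, coeff_monomial]
  by_cases h : m < k i
  · rw [dif_pos h, Finset.sum_eq_single_of_mem (⟨m, h⟩ : Fin (k i)) (Finset.mem_univ _)]
    · rw [if_pos rfl]
    · intro j _ hj
      rw [if_neg fun e => hj (Fin.ext e)]
  · rw [dif_neg h]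
    refine Finset.sum_eq_zero fun j _ => if_neg fun e => h ?_
    rw [← e]
    exact j.2

/-- The product of the cyclic modules `F[X] / (X ^ k i)`. -/
abbrev Cyc : Type _ := ∀ i : Fin d, F[X] ⧸ (Submodule.span F[X] {(X : F[X]) ^ k i})

/-- Coefficient vectors as elements of the product of cyclic modules. -/
noncomputable def toCyc : ((Σ i, Fin (k i)) → F) →ₗ[F] Cyc (F := F) k :=
  LinearMap.pi fun i =>
    ((Submodule.mkQ (Submodule.span F[X] {(X : F[X]) ^ k i})).restrictScalars F).comp (blockPoly k i)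

theorem mk_eq_iff (i : Fin d) (P Q : F[X]) :
    (Submodule.Quotient.mk P : F[X] ⧸ (Submodule.span F[X] {(X : F[X]) ^ k i})) =
      Submodule.Quotient.mk Q ↔ ∀ m < k i, P.coeff m = Q.coeff m := by
  rw [Submodule.Quotient.eq, Submodule.mem_span_singleton]
  constructor
  · rintro ⟨R, hR⟩ m hm
    have h : (P - Q).coeff m = 0 := X_pow_dvd_iff.1 ⟨R, by rw [← hR, smul_eq_mul, mul_comm]⟩ m hm
    rwa [coeff_sub, sub_eq_zero] at h
  · intro h
    obtain ⟨R, hR⟩ := X_pow_dvd_iff.2 (fun m hm => by rw [coeff_sub, h m hm, sub_self] :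
      ∀ m < k i, (P - Q).coeff m = 0)
    exact ⟨R, by rw [smul_eq_mul, hR, mul_comm]⟩

theorem toCyc_apply (f : (Σ i, Fin (k i)) → F) (i : Fin d) :
    toCyc k f i = Submodule.Quotient.mk (blockPoly k i f) := rfl

theorem toCyc_bijective : Function.Bijective (toCyc (F := F) k) := by
  constructor
  · intro f g h
    funext p
    obtain ⟨i, j⟩ := p
    have h1 := (mk_eq_iff k i _ _).1 (congrFun h i) j.1 j.2
    rwa [coeff_blockPoly, coeff_blockPoly, dif_pos j.2, dif_pos j.2] at h1
  · intro y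
    choose P hP using fun i => Submodule.Quotient.mk_surjective _ (y i)
    refine ⟨fun p => (P p.1).coeff p.2.1, funext fun i => ?_⟩
    rw [toCyc_apply, ← hP i, mk_eq_iff]
    intro m hm
    rw [coeff_blockPoly, dif_pos hm]

theorem toCyc_shift (f : (Σ i, Fin (k i)) → F) :
    toCyc k (shiftFun k f) = (X : F[X]) • toCyc k f := by
  funext i
  rw [Pi.smul_apply, toCyc_apply, toCyc_apply, ← Submodule.Quotient.mk_smul, mk_eq_iff]
  intro m hm
  rw [coeff_blockPoly, dif_pos hm, smul_eq_mul]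
  show (if h : 0 < m then f ⟨i, ⟨m - 1, by omega⟩⟩ else 0) = _
  rcases m with _ | m
  · simp
  · rw [dif_pos (Nat.succ_pos _), coeff_X_mul, coeff_blockPoly, dif_pos (show m < k i by omega)]
    rfl

/-- Coefficient vectors and the product of cyclic modules. -/
noncomputable def cycEquiv : ((Σ i, Fin (k i)) → F) ≃ₗ[F] Cyc (F := F) k :=
  LinearEquiv.ofBijective (toCyc k) (toCyc_bijective k)

end Model

variable {V : Type*} [AddCommGroup V] [Module F V] [FiniteDimensional F V]

/-- A nilpotent endomorphism is similar to a shift. -/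
theorem exists_shift (N : Module.End F V) (hN : IsNilpotent N) :
    ∃ (d : ℕ) (k : Fin d → ℕ) (L : V ≃ₗ[F] ((Σ i, Fin (k i)) → F)),
      ∀ v, L (N v) = shiftFun k (L v) := by
  have htors : Module.IsTorsion' (Module.AEval' N) (Submonoid.powers (X : F[X])) := by
    intro x
    obtain ⟨m, hm⟩ := hN
    obtain ⟨v, rfl⟩ := (Module.AEval'.of N).surjective x
    refine ⟨⟨X ^ m, m, rfl⟩, ?_⟩
    show (X ^ m : F[X]) • Module.AEval'.of N v = 0
    rw [Module.AEval.X_pow_smul_of, hm, zero_smul, map_zero]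
  obtain ⟨d, k, ⟨e⟩⟩ := Module.torsion_by_prime_power_decomposition irreducible_X htors
  let e' := e.trans (DirectSum.linearEquivFunOnFintype F[X] (Fin d)
    fun i => F[X] ⧸ (Submodule.span F[X] {(X : F[X]) ^ k i}))
  let L : V ≃ₗ[F] ((Σ i, Fin (k i)) → F) :=
    ((Module.AEval'.of N).trans (e'.restrictScalars F)).trans (cycEquiv k).symm
  refine ⟨d, k, L, fun v => ?_⟩
  refine (cycEquiv k).injective ?_
  show cycEquiv k ((cycEquiv k).symm (e' (Module.AEval'.of N (N v)))) = toCyc k (shiftFun k (L v))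
  rw [toCyc_shift, LinearEquiv.apply_symm_apply, ← Module.AEval'.X_smul_of, map_smul]
  congr 1
  exact ((cycEquiv k).apply_symm_apply _).symm

variable {W : Type*} [AddCommGroup W] [Module F W] [FiniteDimensional F W]

theorem pow_conj {N : Module.End F V} {M : Module.End F W} (L : V ≃ₗ[F] W)
    (h : ∀ v, L (N v) = M (L v)) : ∀ (j : ℕ) v, L ((N ^ j) v) = (M ^ j) (L v)
  | 0, v => rfl
  | j + 1, v => by
    rw [pow_succ', pow_succ', Module.End.mul_apply, Module.End.mul_apply, h, pow_conj L h j]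

theorem rankDim_conj {N : Module.End F V} {M : Module.End F W} (L : V ≃ₗ[F] W)
    (h : ∀ v, L (N v) = M (L v)) (j : ℕ) : rankDim N ⊤ j = rankDim M ⊤ j := by
  rw [rankDim, rankDim]
  refine ((L.submoduleMap _).trans (LinearEquiv.ofEq _ _ ?_)).finrank_eq
  rw [← Submodule.map_comp, Submodule.map_top, Submodule.map_top]
  refine le_antisymm ?_ ?_
  · rintro _ ⟨v, rfl⟩
    exact ⟨L v, (pow_conj L h j v).symm⟩
  · rintro _ ⟨w, rfl⟩
    exact ⟨L.symm w, by simp [pow_conj L h j]⟩

theorem hasType_of_shift {d : ℕ} (k : Fin d → ℕ) {N : Module.End F V}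
    (L : V ≃ₗ[F] ((Σ i, Fin (k i)) → F)) (h : ∀ v, L (N v) = shiftFun k (L v)) :
    HasType N (Finset.univ.val.map k) := fun j => by
  rw [rankDim_conj L h]
  exact shiftFun_hasType k j

/-- The type of a nilpotent endomorphism is unique up to empty blocks. -/
theorem count_eq_of_hasType {N : Module.End F V} {M : Module.End F W} {μ ν : Multiset ℕ}
    (hμ : HasType N μ) (hν : HasType M ν) (h : ∀ j, rankDim N ⊤ j = rankDim M ⊤ j) {e : ℕ}
    (he : e ≠ 0) : μ.count e = ν.count e := by
  obtain ⟨e, rfl⟩ := Nat.exists_eq_succ_of_ne_zero he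
  have hk : ∀ j, kerDim N ⊤ j = kerDim M ⊤ j := fun j => by
    have h1 := rankDim_succ N ⊤ j
    have h2 := rankDim_succ M ⊤ j
    rw [h, h] at h1
    omega
  have h1 := countP_lt_split μ e
  have h2 := countP_lt_split ν e
  rw [← hμ.kerDim_eq, ← hμ.kerDim_eq] at h1
  rw [← hν.kerDim_eq, ← hν.kerDim_eq, ← hk, ← hk] at h2
  show μ.count (e + 1) = ν.count (e + 1)
  omega

/-- Nilpotent endomorphisms with powers of equal rank are similar. -/
theorem similar_of_rankDim {N : Module.End F V} {M : Module.End F W} (hN : IsNilpotent N)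
    (hM : IsNilpotent M) (h : ∀ j, rankDim N ⊤ j = rankDim M ⊤ j) :
    ∃ L : V ≃ₗ[F] W, ∀ v, L (N v) = M (L v) := by
  classical
  obtain ⟨d, k, L, hL⟩ := exists_shift N hN
  obtain ⟨d', k', L', hL'⟩ := exists_shift M hM
  have hcount : ∀ e, e ≠ 0 → Fintype.card {i // k i = e} = Fintype.card {i // k' i = e} := by
    intro e he
    have hc := count_eq_of_hasType (hasType_of_shift k L hL) (hasType_of_shift k' L' hL') h he
    simp only [Multiset.count_map] at hc
    rw [Fintype.card_subtype, Fintype.card_subtype]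
    simpa [Finset.card_def, Finset.filter_val, eq_comm] using hc
  -- a bijection between the non-empty blocks
  have hfib : ∀ e, Nonempty ({i : {i // k i ≠ 0} // k i.1 = e} ≃ {i : {i // k' i ≠ 0} // k' i.1 = e}) := by
    intro e
    rcases eq_or_ne e 0 with rfl | he
    · haveI : IsEmpty {i : {i // k i ≠ 0} // k i.1 = 0} := ⟨fun i => i.1.2 i.2⟩
      haveI : IsEmpty {i : {i // k' i ≠ 0} // k' i.1 = 0} := ⟨fun i => i.1.2 i.2⟩
      exact ⟨Equiv.equivOfIsEmpty _ _⟩
    · exact ⟨((Equiv.subtypeSubtypeEquivSubtype fun hi => by omega).trans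
        (Fintype.equivOfCardEq (hcount e he))).trans
          (Equiv.subtypeSubtypeEquivSubtype fun hi => by omega).symm⟩
  let σ : {i // k i ≠ 0} ≃ {i // k' i ≠ 0} :=
    Equiv.ofFiberEquiv (f := fun i : {i // k i ≠ 0} => k i.1) (g := fun i : {i // k' i ≠ 0} => k' i.1)
      fun e => Classical.choice (hfib e)
  have hσ : ∀ i, k' (σ i).1 = k i.1 := fun i =>
    Equiv.ofFiberEquiv_map (f := fun i : {i // k i ≠ 0} => k i.1) (g := fun i : {i // k' i ≠ 0} => k' i.1) _ i
  let π : (Σ i, Fin (k i)) ≃ (Σ i, Fin (k' i)) :=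
    { toFun := fun p => ⟨(σ ⟨p.1, by have := p.2.isLt; omega⟩).1,
        ⟨p.2.1, by rw [hσ]; exact p.2.isLt⟩⟩
      invFun := fun p => ⟨(σ.symm ⟨p.1, by have := p.2.isLt; omega⟩).1,
        ⟨p.2.1, by
          have h1 := hσ (σ.symm ⟨p.1, by have := p.2.isLt; omega⟩)
          rw [Equiv.apply_symm_apply] at h1
          rw [← h1]; exact p.2.isLt⟩⟩
      left_inv := fun p => by
        obtain ⟨i, j⟩ := p
        have e1 : (σ.symm ⟨(σ ⟨i, by have := j.isLt; omega⟩).1,
            (σ ⟨i, by have := j.isLt; omega⟩).2⟩).1 = i := by simp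
        refine Sigma.ext e1 ((Fin.heq_ext_iff ?_).2 rfl)
        exact congrArg k e1
      right_inv := fun p => by
        obtain ⟨i, j⟩ := p
        have hne : k' i ≠ 0 := by have := j.isLt; omega
        have e1 : (σ ⟨(σ.symm ⟨i, hne⟩).1, (σ.symm ⟨i, hne⟩).2⟩).1 = i := by simp
        refine Sigma.ext e1 ((Fin.heq_ext_iff ?_).2 rfl)
        exact congrArg k' e1 }
  have hπ : ∀ f, LinearMap.funLeft F F π (shiftFun k' f) = shiftFun k (LinearMap.funLeft F F π f) := by
    intro f
    funext p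
    show (if h : 0 < p.2.1 then f ⟨(π p).1, ⟨p.2.1 - 1, _⟩⟩ else 0) =
      (if h : 0 < p.2.1 then f (π ⟨p.1, ⟨p.2.1 - 1, _⟩⟩) else 0)
    rfl
  refine ⟨L.trans ((LinearEquiv.funCongrLeft F F π).symm.trans L'.symm), fun v => ?_⟩
  apply L'.injective
  rw [hL']
  show L' (L'.symm ((LinearEquiv.funCongrLeft F F π).symm (L (N v)))) =
    shiftFun k' (L' (L'.symm ((LinearEquiv.funCongrLeft F F π).symm (L v))))
  rw [LinearEquiv.apply_symm_apply, LinearEquiv.apply_symm_apply, LinearEquiv.symm_apply_eq, hL]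
  conv_lhs => rw [← (LinearEquiv.funCongrLeft F F π).apply_symm_apply (L v)]
  exact (hπ _).symm

end Cfsg.Agent.UnipClasses
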